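import Cfsg.Agent.H320.O8.Sub
import Cfsg.Agent.Lib.MinNormal
import Cfsg.Agent.Lib.SubnormalJoin

/-!
# Subgroups of `Ω₈⁺(2)` with elements of orders seven and nine: the socle (helper320)
-/

set_option autoImplicit false

namespace Cfsg.Agent.H320.O8

open Subgroup

section

variable {M : Type*} [Group M]

theorem Sub.not_sq (h : Sub M) : ¬ 49 ∣ Nat.card M := fun h1 => by
  have := h1.trans h.card
  norm_num at this

/-- the normaliser of a subgroup of order seven -/
theorem Sub.card_normalizer (h : Sub M) {P : Subgroup M} (hP : Nat.card P = 7) :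
    Nat.card (normalizer (P : Set M)) ∣ 42 := by
  have := h.finite
  have : Fact (Nat.Prime 7) := ⟨by norm_num⟩
  have hcy : IsCyclic P := isCyclic_of_prime_card hP
  obtain ⟨y, hy⟩ := hcy.exists_generator
  have hy7 : orderOf (y : M) = 7 := by
    rw [Subgroup.orderOf_coe, ← hP, orderOf_eq_card_of_forall_mem_zpowers hy]
  have hc : centralizer (P : Set M) = P := by
    apply le_antisymm
    · intro x hx
      have h1 : x ∈ zpowers (y : M) := h.cent y x hy7 ((mem_centralizer_iff.1 hx y y.2).symm)
      exact (zpowers_le.2 y.2) h1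
    · intro x hx
      rw [mem_centralizer_iff]
      intro z hz
      have : IsMulCommutative P := ⟨⟨hcy.commGroup.mul_comm⟩⟩
      exact congrArg Subtype.val (mul_comm' (⟨z, hz⟩ : P) ⟨x, hx⟩)
  have hker := normalizerMonoidHom_ker (H := P)
  have h1 : Nat.card (normalizerMonoidHom P).ker = 7 := by
    rw [hker, hc, Nat.card_congr (subgroupOfEquivOfLe le_normalizer).toEquiv, hP]
  have h2 : Nat.card (normalizer (P : Set M)) = Nat.card (normalizerMonoidHom P).ker * Nat.card (normalizerMonoidHom P).range := by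
    rw [mul_comm, ← Nat.card_congr (QuotientGroup.quotientKerEquivRange (normalizerMonoidHom P)).toEquiv]
    exact Subgroup.card_eq_card_quotient_mul_card_subgroup _
  have h3 : Nat.card (normalizerMonoidHom P).range ∣ 6 := by
    have h4 : Nat.card (MulAut P) = 6 := by
      rw [IsCyclic.card_mulAut, hP]
      decide
    rw [← h4]
    exact Subgroup.card_subgroup_dvd_card _
  rw [h2, h1]
  exact mul_dvd_mul_left 7 h3

/-- **the numbers** -/
theorem Sub.numbers (h : Sub M) {S : Subgroup M} [S.Normal] (hS : IsSimpleGroup S) (hna : ¬ ∀ a b : S, a * b = b * a)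
    (h7 : 7 ∣ Nat.card S) : ∃ b e n : ℕ, (b = 14 ∨ b = 21 ∨ b = 42) ∧ Nat.card M = e * Nat.card S ∧ b * e ∣ 42 ∧
      Nat.card S = b * n ∧ n % 7 = 1 := by
  have := h.finite
  have : Fact (Nat.Prime 7) := ⟨by norm_num⟩
  obtain ⟨P⟩ : Nonempty (Sylow 7 S) := inferInstance
  have hfac : (Nat.card S).factorization 7 = 1 := by
    have h0 : Nat.card S ≠ 0 := Nat.card_pos.ne'
    have a1 : 1 ≤ (Nat.card S).factorization 7 :=
      (Nat.Prime.pow_dvd_iff_le_factorization (by norm_num) h0).1 (by rwa [pow_one])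
    have a2 : ¬ 2 ≤ (Nat.card S).factorization 7 := fun h' =>
      h.not_sq (((Nat.Prime.pow_dvd_iff_le_factorization (by norm_num) h0).2 h').trans
        (Subgroup.card_subgroup_dvd_card S))
    omega
  have hP : Nat.card P = 7 := by rw [P.card_eq_multiplicity, hfac, pow_one]
  set P' : Subgroup M := (P : Subgroup S).map S.subtype with hP'
  have hcP' : Nat.card P' = 7 := by
    rw [hP', Nat.card_congr ((P : Subgroup S).equivMapOfInjective S.subtype S.subtype_injective).toEquiv.symm]
    exact hP
  have hN := h.card_normalizer hcP'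
  have hP'S : P' ≤ S := by
    rintro _ ⟨x, -, rfl⟩
    exact x.2
  have hsub : P'.subgroupOf S = P := by
    rw [hP']
    exact Subgroup.comap_map_eq_self_of_injective S.subtype_injective _
  have hNS : (normalizer (P' : Set M)).subgroupOf S = normalizer ((P : Subgroup S) : Set S) := by
    rw [subgroupOf_normalizer_eq hP'S, hsub]
  -- the Sylow count in `S`
  have hn := card_sylow_modEq_one 7 S
  have hi : Nat.card (Sylow 7 S) = (normalizer ((P : Subgroup S) : Set S)).index := P.card_eq_index_normalizer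
  have hbn := (normalizer ((P : Subgroup S) : Set S)).card_mul_index
  -- Frattini
  have hF := Sylow.normalizer_sup_eq_top P
  rw [← hP'] at hF
  have hsurj : Function.Surjective ((QuotientGroup.mk' S).comp (normalizer (P' : Set M)).subtype) := by
    intro q
    obtain ⟨x, rfl⟩ := QuotientGroup.mk'_surjective S q
    have hx : x ∈ normalizer (P' : Set M) ⊔ S := by rw [hF]; trivial
    obtain ⟨a, ha, b, hb, rfl⟩ := Subgroup.mem_sup_of_normal_right.1 hx
    refine ⟨⟨a, ha⟩, ?_⟩
    show QuotientGroup.mk' S a = QuotientGroup.mk' S (a * b)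
    have hb1 : QuotientGroup.mk' S b = 1 := (QuotientGroup.eq_one_iff b).2 hb
    rw [map_mul, hb1, mul_one]
  have hker : ((QuotientGroup.mk' S).comp (normalizer (P' : Set M)).subtype).ker =
      S.subgroupOf (normalizer (P' : Set M)) := by
    ext x
    rw [MonoidHom.mem_ker, mem_subgroupOf]
    show QuotientGroup.mk' S (x : M) = 1 ↔ _
    exact QuotientGroup.eq_one_iff _
  have hcN : Nat.card (normalizer (P' : Set M)) = Nat.card (M ⧸ S) *
      Nat.card (normalizer ((P : Subgroup S) : Set S)) := by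
    rw [Subgroup.card_eq_card_quotient_mul_card_subgroup
      ((QuotientGroup.mk' S).comp (normalizer (P' : Set M)).subtype).ker,
      Nat.card_congr (QuotientGroup.quotientKerEquivOfSurjective _ hsurj).toEquiv, hker, ← hNS]
    congr 1
    refine Nat.card_congr ⟨fun x => ⟨⟨x.1.1, x.2⟩, x.1.2⟩, fun x => ⟨⟨x.1.1, x.2⟩, x.1.2⟩, fun x => rfl,
      fun x => rfl⟩
  have hcM : Nat.card M = Nat.card (M ⧸ S) * Nat.card S := Subgroup.card_eq_card_quotient_mul_card_subgroup S
  -- Burnside
  have hb7 : Nat.card (normalizer ((P : Subgroup S) : Set S)) ≠ 7 := by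
    intro hb
    have h1 : normalizer ((P : Subgroup S) : Set S) = P :=
      (Subgroup.eq_of_le_of_card_ge le_normalizer (by rw [hb, hP])).symm
    have hcy : IsCyclic P := isCyclic_of_prime_card hP
    have h2 : normalizer ((P : Subgroup S) : Set S) ≤ centralizer ((P : Subgroup S) : Set S) := by
      rw [h1]
      intro x hx
      rw [mem_centralizer_iff]
      intro z hz
      have : IsMulCommutative P := ⟨⟨hcy.commGroup.mul_comm⟩⟩
      exact congrArg Subtype.val (mul_comm' (⟨z, hz⟩ : P) ⟨x, hx⟩)
    have h3 := MonoidHom.ker_transferSylow_isComplement' P h2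
    have h4 := h3.card_mul_card
    have h6 : (MonoidHom.transferSylow P h2).ker = ⊥ ∨ (MonoidHom.transferSylow P h2).ker = ⊤ :=
      hS.eq_bot_or_eq_top_of_normal _ inferInstance
    have h5 : Nat.card ((P : Subgroup S)) = 7 := hP
    rw [h5] at h4
    rcases h6 with h6 | h6
    · rw [h6, Subgroup.card_bot, one_mul] at h4
      have hcS : IsCyclic S := isCyclic_of_prime_card h4.symm
      exact hna hcS.commGroup.mul_comm
    · rw [h6, Subgroup.card_top] at h4
      have : 0 < Nat.card S := Nat.card_pos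
      omega
  have hb42 : Nat.card (normalizer ((P : Subgroup S) : Set S)) ∣ 42 :=
    (Dvd.intro_left _ hcN.symm).trans hN
  have hb71 : 7 ∣ Nat.card (normalizer ((P : Subgroup S) : Set S)) :=
    hP.symm.dvd.trans (Subgroup.card_dvd_of_le le_normalizer)
  refine ⟨Nat.card (normalizer ((P : Subgroup S) : Set S)), Nat.card (M ⧸ S), (normalizer ((P : Subgroup S) : Set S)).index,
    ?_, hcM, ?_, hbn.symm, ?_⟩
  · generalize Nat.card (normalizer ((P : Subgroup S) : Set S)) = b at hb42 hb71 hb7
    obtain ⟨c, rfl⟩ := hb71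
    have h8 : c ∣ 6 := Nat.dvd_of_mul_dvd_mul_left (by norm_num : 0 < 7) (by norm_num; exact hb42)
    have h9 : c ≤ 6 := Nat.le_of_dvd (by norm_num) h8
    interval_cases c <;> omega
  · rw [mul_comm, ← hcN]
    exact hN
  · rw [← hi]
    exact hn

/-- **the socle** -/
theorem Sub.exists_simple (h : Sub M) (h7 : 7 ∣ Nat.card M) (h9 : ∃ g : M, orderOf g = 9) :
    ∃ S : Subgroup M, S.Normal ∧ IsSimpleGroup S ∧ (¬ ∀ a b : S, a * b = b * a) ∧ 7 ∣ Nat.card S := by
  have := h.finite
  have hnt : Nontrivial M := by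
    by_contra hn
    rw [not_nontrivial_iff_subsingleton] at hn
    rw [Nat.card_of_subsingleton (1 : M)] at h7
    omega
  obtain ⟨S, hSn, hS0, hmin⟩ := Cfsg.Agent.Lib.SubnormalJoin.exists_minimal_normal M
  have h71 : 7 ∣ Nat.card S := by
    by_contra hc
    exact hS0 (h.eq_bot h7 h9 S hc)
  obtain ⟨T, m, hTS, hT, hm, ⟨e⟩⟩ := Cfsg.Agent.Lib.MinNormal.exists_mulEquiv_pi S hS0 hmin
  have hc : Nat.card S = Nat.card T ^ m := by
    rw [Nat.card_congr e.toEquiv, Nat.card_fun, Nat.card_eq_fintype_card (α := Fin m), Fintype.card_fin]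
  have h72 : 7 ∣ Nat.card T := (Nat.Prime.dvd_of_dvd_pow (by norm_num)) (hc ▸ h71)
  have hm1 : m = 1 := by
    by_contra hm1
    have h1 : Nat.card T ^ 2 ∣ Nat.card S := by
      rw [hc]
      exact pow_dvd_pow _ (by omega)
    have h2 : 7 ^ 2 ∣ Nat.card M := ((pow_dvd_pow_of_dvd h72 2).trans h1).trans (Subgroup.card_subgroup_dvd_card S)
    exact h.not_sq h2
  subst hm1
  rw [pow_one] at hc
  have hTS' : T = S := Subgroup.eq_of_le_of_card_ge hTS hc.le
  have hSs : IsSimpleGroup S := hTS' ▸ hT
  refine ⟨S, hSn, hSs, ?_, h71⟩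
  intro hcomm
  -- the socle has order seven
  have : Fact (Nat.Prime 7) := ⟨by norm_num⟩
  have hp : (Nat.card S).Prime := by
    let _ : CommGroup S := { (inferInstance : Group S) with mul_comm := hcomm }
    exact IsSimpleGroup.prime_card
  have hS7 : Nat.card S = 7 := ((Nat.prime_dvd_prime_iff_eq (by norm_num) hp).1 h71).symm
  have h1 := h.card_normalizer hS7
  rw [normalizer_eq_top, Subgroup.card_top] at h1
  obtain ⟨g, hg⟩ := h9
  have h2 := orderOf_dvd_natCard g
  rw [hg] at h2
  have h3 := h2.trans h1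
  norm_num at h3

end

end Cfsg.Agent.H320.O8
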