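import Cfsg.Agent.H320.O8.Miss
import Cfsg.Agent.S0000

/-!
# Task 1607 (b) (helper320)
-/

set_option autoImplicit false

namespace Cfsg.Agent.H320.O8

open Cfsg.Agent.H938.Sax

/-- **(b)** -/
theorem o8p2_miss {F : Type} [Field F] [Fintype F] (hF : Fintype.card F = 2) :
    MissMax (Cfsg.POmega F (Cfsg.quadFormPlus 4 F)) :=
  o8p2_missMax hF fun S _ _ hS => by
    haveI := hS
    exact Cfsg.Agent.S0000.result

end Cfsg.Agent.H320.O8
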