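import Cfsg.Agent.J2.HundredFinal
import Cfsg.Prelude.Def_Classical

/-!
# Missing element orders of `A₉` and `J₂` (helper320)
-/

set_option autoImplicit false

namespace Cfsg.Agent.H320.O8.NoOrd

open Equiv Equiv.Perm Subgroup

/-! ### `A₉` has no element of order eight -/

theorem perm_eight (σ : Perm (Fin 9)) (h : orderOf σ = 8) : sign σ = -1 := by
  have h1 : 8 ∈ σ.cycleType := by
    by_contra h8
    have h2 : σ.cycleType.lcm ∣ 4 := by
      refine Multiset.lcm_dvd.2 fun n hn => ?_
      have h3 : n ∣ 8 := by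
        rw [← h]
        exact dvd_of_mem_cycleType hn
      have h4 : n ≤ 8 := Nat.le_of_dvd (by norm_num) h3
      have h5 : n ≠ 8 := fun h6 => h8 (h6 ▸ hn)
      interval_cases n <;> omega
    rw [lcm_cycleType, h] at h2
    norm_num at h2
  obtain ⟨t, ht⟩ := Multiset.exists_cons_of_mem h1
  have h2 : σ.cycleType.sum ≤ 9 := by
    rw [sum_cycleType]
    exact (Finset.card_le_univ _).trans_eq (Fintype.card_fin 9)
  have h3 : t = 0 := by
    rw [Multiset.eq_zero_iff_forall_notMem]
    intro n hn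
    have h4 : 2 ≤ n := two_le_of_mem_cycleType (by rw [ht]; exact Multiset.mem_cons_of_mem hn)
    have h5 : n ≤ t.sum := Multiset.single_le_sum (fun _ _ => Nat.zero_le _) n hn
    rw [ht, Multiset.sum_cons] at h2
    omega
  rw [sign_of_cycleType, ht, h3]
  decide

theorem alt_nine (g : alternatingGroup (Fin 9)) : orderOf g ≠ 8 := by
  intro h
  have h1 := perm_eight (g : Perm (Fin 9)) (by rw [Subgroup.orderOf_coe, h])
  rw [mem_alternatingGroup.1 g.2] at h1
  exact absurd h1 (by decide)

/-! ### nilpotent `3 × 3` matrices -/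

theorem cube_zero {F : Type*} [Field F] (A : Matrix (Fin 3) (Fin 3) F) (h : IsNilpotent A) : A ^ 3 = 0 := by
  have h1 : IsNilpotent (Matrix.toLin' A) := by
    obtain ⟨n, hn⟩ := h
    exact ⟨n, by rw [← Matrix.toLin'_pow, hn, map_zero]⟩
  have h2 := (LinearMap.isNilpotent_iff_charpoly (Matrix.toLin' A)).1 h1
  have h3 := LinearMap.aeval_self_charpoly (Matrix.toLin' A)
  rw [h2] at h3
  simp only [map_pow, Polynomial.aeval_X] at h3
  rw [← Matrix.toLin'_pow] at h3
  have h4 : Matrix.toLin' (A ^ Module.finrank F (Fin 3 → F)) = Matrix.toLin' 0 := by rw [h3, map_zero]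
  have h5 := Matrix.toLin'.injective h4
  rwa [Module.finrank_fin_fun] at h5

/-- in characteristic three unipotent `3 × 3` matrices have order dividing three -/
theorem cube_one {F : Type*} [Field F] [CharP F 3] {A : Matrix (Fin 3) (Fin 3) F} {k : ℕ} (h : A ^ 3 ^ k = 1) :
    A ^ 3 = 1 := by
  have := Fact.mk Nat.prime_three
  have h1 : (A - 1) ^ 3 ^ k = 0 := by
    rw [sub_pow_char_pow_of_commute _ _ (Commute.one_right A), h, one_pow, sub_self]
  have h2 := cube_zero (A - 1) ⟨_, h1⟩
  have h3 : (A - 1) ^ 3 = A ^ 3 - 1 := by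
    have := sub_pow_char_of_commute (p := 3) (Commute.one_right A)
    rwa [one_pow] at this
  rw [h3] at h2
  exact sub_eq_zero.1 h2

/-! ### elements of `p`-power order and subgroups of index prime to `p` -/

theorem exists_order_of_index {G : Type*} [Group G] [Finite G] (H : Subgroup G) {p : ℕ} (hp : p.Prime)
    (hi : ¬ p ∣ H.index) {g : G} {k : ℕ} (hg : orderOf g = p ^ k) : ∃ h : H, orderOf h = p ^ k := by
  have := Fact.mk hp
  obtain ⟨P⟩ : Nonempty (Sylow p H) := inferInstance
  have h1 : Nat.card ((P : Subgroup H).map H.subtype) = p ^ (Nat.card G).factorization p := by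
    rw [Nat.card_congr ((P : Subgroup H).equivMapOfInjective H.subtype H.subtype_injective).toEquiv.symm,
      P.card_eq_multiplicity, ← H.card_mul_index, Nat.factorization_mul Nat.card_pos.ne' H.index_ne_zero_of_finite,
      Finsupp.add_apply, Nat.factorization_eq_zero_of_not_dvd hi, add_zero]
  let Q : Sylow p G := Sylow.ofCard ((P : Subgroup H).map H.subtype) h1
  have h2 : IsPGroup p (zpowers g) := IsPGroup.of_card (n := k) (by rw [Nat.card_zpowers, hg])
  obtain ⟨R, hR⟩ := h2.exists_le_sylow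
  obtain ⟨x, hx⟩ := MulAction.exists_smul_eq G R Q
  have h3 : x * g * x⁻¹ ∈ (P : Subgroup H).map H.subtype := by
    have h4 : x * g * x⁻¹ ∈ (x • R : Sylow p G) := ⟨g, hR (mem_zpowers g), rfl⟩
    rw [hx] at h4
    exact h4
  obtain ⟨h, -, hh⟩ := h3
  refine ⟨h, ?_⟩
  rw [← Subgroup.orderOf_coe, show (h : G) = x * g * x⁻¹ from hh]
  have h5 := orderOf_injective (MulAut.conj x).toMonoidHom (MulAut.conj x).injective g
  rw [← hg, ← h5]
  rfl

/-! ### `PSU₃(3)` -/

theorem char_three {F : Type*} [Field F] [Fintype F] (h : Fintype.card F = 9) : CharP F 3 := by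
  have h1 : ((9 : ℕ) : F) = 0 := by
    rw [← h]
    exact Nat.cast_card_eq_zero F
  have h2 : ((3 : ℕ) : F) = 0 := by
    have h3 : ((3 : ℕ) : F) * ((3 : ℕ) : F) = 0 := by
      rw [← Nat.cast_mul]
      exact h1
    exact mul_self_eq_zero.1 h3
  exact (CharP.charP_iff_prime_eq_zero Nat.prime_three).2 h2

theorem psu_no_nine {F : Type} [Field F] [Fintype F] (h : Fintype.card F = 9) (a : Cfsg.PSU 3 F 3) :
    orderOf a ≠ 9 := by
  intro ha
  have := char_three h
  obtain ⟨A, rfl⟩ := QuotientGroup.mk'_surjective _ a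
  -- the 3-part of a lift
  have hn : orderOf A ≠ 0 := (orderOf_pos A).ne'
  set o := orderOf A with ho
  have h1 : o = 3 ^ (o.factorization 3) * (o / 3 ^ (o.factorization 3)) := (Nat.ordProj_mul_ordCompl_eq_self o 3).symm
  set k := o.factorization 3
  set m := o / 3 ^ k with hm
  have hm3 : Nat.Coprime m 9 := by
    have := Nat.coprime_ordCompl Nat.prime_three hn
    exact (Nat.Coprime.pow_left 2 this).symm
  have h2 : (A ^ m) ^ 3 ^ k = 1 := by
    rw [← pow_mul, mul_comm, ← h1]
    exact pow_orderOf_eq_one A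
  have h3 : orderOf (QuotientGroup.mk' (Subgroup.center (Cfsg.SU 3 F 3)) (A ^ m)) = 9 := by
    rw [map_pow, Nat.Coprime.orderOf_pow, ha]
    rw [ha]
    exact hm3.symm
  have h4 : (A ^ m) ^ 3 = 1 := by
    apply Subtype.ext
    apply Subtype.ext
    have h5 : (((A ^ m : Cfsg.SU 3 F 3) : Matrix.SpecialLinearGroup (Fin 3) F) : Matrix (Fin 3) (Fin 3) F) ^ 3 ^ k = 1 := by
      have := congrArg (fun x : Cfsg.SU 3 F 3 => ((x : Matrix.SpecialLinearGroup (Fin 3) F) : Matrix (Fin 3) (Fin 3) F)) h2
      simpa using this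
    have h6 := cube_one h5
    simpa using h6
  have h5 : orderOf (QuotientGroup.mk' (Subgroup.center (Cfsg.SU 3 F 3)) (A ^ m)) ∣ 3 :=
    orderOf_dvd_of_pow_eq_one (by rw [← map_pow, h4, map_one])
  rw [h3] at h5
  norm_num at h5

/-- **`J₂` has no element of order nine** -/
theorem j2_no_nine {X : Type*} [Group X] (e : X ≃* Cfsg.Spor.J2) (hc : Nat.card X = 604800) (g : X) :
    orderOf g ≠ 9 := by
  intro hg
  have hcard : Nat.card Cfsg.Spor.J2 = 604800 := by rw [← hc]; exact (Nat.card_congr e.toEquiv).symm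
  have : Finite Cfsg.Spor.J2 := Nat.finite_of_card_ne_zero (by rw [hcard]; norm_num)
  obtain ⟨H, hi, ⟨F, _, _, hF, ⟨u⟩⟩, -⟩ := Cfsg.Agent.J2.HundredFinal.main hcard
  have h1 : orderOf (e g) = 3 ^ 2 := by
    rw [← orderOf_injective e.toMonoidHom e.injective g] at hg
    exact hg
  obtain ⟨h, hh⟩ := exists_order_of_index H Nat.prime_three (by rw [hi]; norm_num) h1
  apply psu_no_nine hF (u h)
  rw [← orderOf_injective u.toMonoidHom u.injective h] at hh
  exact hh

end Cfsg.Agent.H320.O8.NoOrd
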