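import Cfsg.Agent.H320.O8.Sub

/-!
# Sections of `Ω₈⁺(2)` with the full set of element orders (helper320, task 1607 (a))
-/

set_option autoImplicit false

namespace Cfsg.Agent.H320.O8

open Subgroup

theorem exists_order_of_quotient {H : Type*} [Group H] [Finite H] {K : Subgroup H} [K.Normal] {n : ℕ}
    (h : ∃ q : H ⧸ K, orderOf q = n) : ∃ g : H, orderOf g = n := by
  obtain ⟨q, hq⟩ := h
  obtain ⟨g, rfl⟩ := QuotientGroup.mk'_surjective K q
  have h1 : n ∣ orderOf g := by
    rw [← hq]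
    exact orderOf_map_dvd _ g
  obtain ⟨k, hk⟩ := h1
  have h2 : k ≠ 0 := by
    rintro rfl
    exact (orderOf_pos g).ne' (by rw [hk, mul_zero])
  refine ⟨g ^ k, ?_⟩
  rw [orderOf_pow' g h2, hk, Nat.gcd_mul_left_left]
  exact Nat.mul_div_cancel _ (Nat.pos_of_ne_zero h2)

theorem section_bot {T : Type*} [Group T] (h : Fct T) (L : Subgroup T) (K : Subgroup L) [K.Normal]
    (hr : Set.range (orderOf : (L ⧸ K) → ℕ) = Set.range (orderOf : T → ℕ)) : K = ⊥ := by
  have := h.finite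
  have hs : Sub L := h.sub L.subtype L.subtype_injective
  have h7 : ∃ q : L ⧸ K, orderOf q = 7 := by
    obtain ⟨y, hy⟩ := @exists_prime_orderOf_dvd_card' T _ _ 7 ⟨by norm_num⟩ (by rw [h.card]; norm_num)
    have : (7 : ℕ) ∈ Set.range (orderOf : (L ⧸ K) → ℕ) := by
      rw [hr]
      exact ⟨y, hy⟩
    exact this
  have h9 : ∃ q : L ⧸ K, orderOf q = 9 := by
    obtain ⟨y, hy⟩ := h.e9
    have : (9 : ℕ) ∈ Set.range (orderOf : (L ⧸ K) → ℕ) := by
      rw [hr]
      exact ⟨y, hy⟩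
    exact this
  have h71 : 7 ∣ Nat.card (L ⧸ K) := by
    obtain ⟨q, hq⟩ := h7
    rw [← hq]
    exact orderOf_dvd_natCard q
  have hc := Subgroup.card_eq_card_quotient_mul_card_subgroup K
  refine hs.eq_bot ?_ (exists_order_of_quotient h9) K ?_
  · rw [hc]
    exact Dvd.dvd.mul_right h71 _
  · intro h72
    have h3 : 7 * 7 ∣ Nat.card L := by
      rw [hc]
      exact mul_dvd_mul h71 h72
    have h4 := h3.trans hs.card
    norm_num at h4

/-- **(a)** -/
theorem o8p2_section {F : Type} [Field F] [Fintype F] (hF : Fintype.card F = 2)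
    (L : Subgroup (Cfsg.POmega F (Cfsg.quadFormPlus 4 F))) (K : Subgroup L) [K.Normal]
    (h : Set.range (orderOf : (L ⧸ K) → ℕ) =
      Set.range (orderOf : Cfsg.POmega F (Cfsg.quadFormPlus 4 F) → ℕ)) : K = ⊥ :=
  section_bot (fct_T hF) L K h

end Cfsg.Agent.H320.O8
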