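import Cfsg.Agent.ClassicalGeometry.SympAutCentral

/-!
# Elements of order four of `Sp₆(2)` (helper320)
-/

set_option autoImplicit false

open Cfsg

namespace Cfsg.Agent.H320.O8.Sp6

open Cfsg.Agent.ClassicalGeometry.SympBasic Cfsg.Agent.ClassicalGeometry.SympSiegel Module

variable {F : Type*} [Field F] [Fintype F] {m : ℕ}

local notation "V" => (Fin m ⊕ Fin m → F)
local notation "G" => Matrix.symplecticGroup (Fin m) F
local notation "fm" => sympForm m F

section two

theorem zo (hF : Fintype.card F = 2) (a : F) : a = 0 ∨ a = 1 := by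
  classical
  by_contra h
  push Not at h
  have h1 : ({0, 1, a} : Finset F).card = 3 := by
    rw [Finset.card_insert_of_notMem, Finset.card_insert_of_notMem, Finset.card_singleton]
    · simp [h.2.symm]
    · simp [h.1.symm]
  have h2 := Finset.card_le_univ ({0, 1, a} : Finset F)
  omega

theorem add1 (hF : Fintype.card F = 2) : (1 : F) + 1 = 0 := by
  have h := Nat.cast_card_eq_zero F
  rw [hF] at h
  rw [one_add_one_eq_two]
  exact_mod_cast h

theorem adda (hF : Fintype.card F = 2) (a : F) : a + a = 0 := by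
  rw [← two_mul, ← one_add_one_eq_two, add1 hF, zero_mul]

theorem addv (hF : Fintype.card F = 2) (v : V) : v + v = 0 := by
  funext i
  exact adda hF _

theorem swap2 (hF : Fintype.card F = 2) (u v : V) : fm u v = fm v u := by
  rw [sympForm_swap]
  have := adda hF (fm v u)
  exact neg_eq_of_add_eq_zero_left this

end two

section

variable (hF : Fintype.card F = 2)
include hF

theorem center_eq : Subgroup.center G = ⊥ := by
  rw [eq_bot_iff]
  intro A hA
  obtain ⟨b, hb, hv⟩ := Cfsg.Agent.ClassicalGeometry.SympAutCentral.center_scalar hA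
  rw [Subgroup.mem_bot]
  have hb1 : b = 1 := by
    rcases zo hF b with rfl | rfl
    · rw [mul_zero] at hb
      exact absurd hb zero_ne_one
    · rfl
  apply ext_smul
  intro v
  rw [hv, hb1, one_smul, one_smul]

/-- `PSp = Sp` over the field with two elements -/
noncomputable def pe : PSp m F ≃* G :=
  (QuotientGroup.quotientMulEquivOfEq (center_eq hF)).trans QuotientGroup.quotientBot

/-- a transvection -/
noncomputable def T (a : V) : G := transv a 1

omit hF [Fintype F] in
theorem T_smul (a x : V) : T a • x = x + fm x a • a := by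
  rw [T, transv_smul, one_mul]

omit hF [Fintype F] in
theorem T_conj (g : G) (a : V) : g * T a = T (g • a) * g := by
  rw [T, T, ← conj_transv]
  group

omit hF [Fintype F] in
theorem T_comm {g : G} {a : V} (h : g • a = a) : g * T a = T a * g := by
  rw [T_conj, h]

omit hF [Fintype F] in
theorem T_comm' {a b : V} (h : fm b a = 0) : T a * T b = T b * T a :=
  T_comm (by rw [T_smul, h, zero_smul, add_zero])

theorem order_three {x y : V} (hxy : fm x y = 1) : orderOf (T x * T y) = 3 := by
  have hyx : fm y x = 1 := by rw [swap2 hF, hxy]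
  have h1 : T x * T y ≠ 1 := by
    intro h
    have h2 : (T x * T y) • x = x := by rw [h, one_smul]
    rw [mul_smul, T_smul y, hxy, one_smul, T_smul, sympForm_add_left, sympForm_self, hyx, zero_add, one_smul,
      add_comm x y, add_assoc, addv hF, add_zero] at h2
    rw [h2, sympForm_self] at hxy
    exact zero_ne_one hxy
  refine orderOf_eq_prime ?_ h1
  apply ext_smul
  intro v
  rw [one_smul, pow_succ, pow_two]
  have key : ∀ p q : F, (T x * T y) • (v + p • x + q • y) =
      v + (p + fm v x + (q + fm v y + p)) • x + (q + fm v y + p) • y := by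
    intro p q
    rw [mul_smul, T_smul y, T_smul x]
    simp only [sympForm_add_left, sympForm_smul_left, sympForm_self, hxy, hyx]
    module
  have h0 : v = v + (0 : F) • x + (0 : F) • y := by rw [zero_smul, zero_smul, add_zero, add_zero]
  conv_lhs => rw [h0]
  rw [mul_smul, mul_smul, key, key, key]
  rcases zo hF (fm v x) with e1 | e1 <;> rcases zo hF (fm v y) with e2 | e2 <;> rw [e1, e2] <;>
    simp [add1 hF]

/-- the scalar of a bit -/
def ps (F : Type*) [Field F] (b : Bool) : F := cond b 1 0

theorem ps_xor (b c : Bool) : ps F (b ^^ c) = ps F b + ps F c := by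
  cases b <;> cases c <;> simp [ps, add1 hF]

theorem exists_ps (a : F) : ∃ b, a = ps F b := by
  rcases zo hF a with rfl | rfl
  · exact ⟨false, rfl⟩
  · exact ⟨true, rfl⟩

omit hF [Fintype F] in
/-- the step -/
def step (α β γ δ : Bool) (s : Bool × Bool × Bool × Bool) : Bool × Bool × Bool × Bool :=
  let d := s.2.2.2 ^^ δ ^^ s.2.2.1
  let c := s.2.2.1 ^^ γ ^^ s.2.1 ^^ d
  let b := s.2.1 ^^ β ^^ s.1 ^^ c
  (s.1 ^^ α ^^ b, b, c, d)

theorem order_five {a b c d : V} (hab : fm a b = 1) (hbc : fm b c = 1) (hcd : fm c d = 1) (hac : fm a c = 0)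
    (had : fm a d = 0) (hbd : fm b d = 0) : orderOf (T a * T b * T c * T d) = 5 := by
  have hba : fm b a = 1 := by rw [swap2 hF, hab]
  have hcb : fm c b = 1 := by rw [swap2 hF, hbc]
  have hdc : fm d c = 1 := by rw [swap2 hF, hcd]
  have hca : fm c a = 0 := by rw [swap2 hF, hac]
  have hda : fm d a = 0 := by rw [swap2 hF, had]
  have hdb : fm d b = 0 := by rw [swap2 hF, hbd]
  have h1 : T a * T b * T c * T d ≠ 1 := by
    intro h
    have h2 : (T a * T b * T c * T d) • a = a := by rw [h, one_smul]
    rw [mul_smul, T_smul d, had, zero_smul, add_zero, mul_smul, T_smul c, hac, zero_smul, add_zero, mul_smul,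
      T_smul b, hab, one_smul, T_smul, sympForm_add_left, sympForm_self, hba, zero_add, one_smul,
      add_comm a b, add_assoc, addv hF, add_zero] at h2
    rw [h2, sympForm_self] at hab
    exact zero_ne_one hab
  have := Fact.mk Nat.prime_five
  refine orderOf_eq_prime ?_ h1
  apply ext_smul
  intro v
  rw [one_smul]
  have key : ∀ p q r s : F, (T a * T b * T c * T d) • (v + p • a + q • b + r • c + s • d) =
      v + (p + fm v a + (q + fm v b + p + (r + fm v c + q + (s + fm v d + r)))) • a +
        (q + fm v b + p + (r + fm v c + q + (s + fm v d + r))) • b + (r + fm v c + q + (s + fm v d + r)) • c +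
        (s + fm v d + r) • d := by
    intro p q r s
    rw [mul_smul, mul_smul, mul_smul, T_smul d, T_smul c, T_smul b, T_smul a]
    simp only [sympForm_add_left, sympForm_smul_left, sympForm_self, hab, hbc, hcd, hac, had, hbd, hba, hcb, hdc,
      hca, hda, hdb]
    module
  obtain ⟨α, hα⟩ := exists_ps hF (fm v a)
  obtain ⟨β, hβ⟩ := exists_ps hF (fm v b)
  obtain ⟨γ, hγ⟩ := exists_ps hF (fm v c)
  obtain ⟨δ, hδ⟩ := exists_ps hF (fm v d)
  rw [hα, hβ, hγ, hδ] at key
  let E : Bool × Bool × Bool × Bool → V := fun s =>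
    v + ps F s.1 • a + ps F s.2.1 • b + ps F s.2.2.1 • c + ps F s.2.2.2 • d
  have key2 : ∀ s, (T a * T b * T c * T d) • E s = E (step α β γ δ s) := by
    intro s
    show (T a * T b * T c * T d) • (v + ps F s.1 • a + ps F s.2.1 • b + ps F s.2.2.1 • c + ps F s.2.2.2 • d) = _
    rw [key]
    simp only [E, step, ps_xor hF]
  have h0 : v = E (false, false, false, false) := by
    simp only [E, ps, cond_false, zero_smul, add_zero]
  have h5 : (T a * T b * T c * T d) ^ 5 = (T a * T b * T c * T d) * ((T a * T b * T c * T d) *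
      ((T a * T b * T c * T d) * ((T a * T b * T c * T d) * (T a * T b * T c * T d)))) := by
    simp only [pow_succ, pow_zero, one_mul, mul_assoc]
  rw [h5]
  generalize T a * T b * T c * T d = g at key2 ⊢
  have h6 : ∀ α β γ δ, step α β γ δ (step α β γ δ (step α β γ δ (step α β γ δ (step α β γ δ
      (false, false, false, false))))) = (false, false, false, false) := by decide
  conv_lhs => rw [h0]
  rw [mul_smul, mul_smul, mul_smul, mul_smul, key2, key2, key2, key2, key2, h6, ← h0]

/-- completing a hyperbolic pair -/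
theorem exists_five {x y : Fin 3 ⊕ Fin 3 → F} (hxy : sympForm 3 F x y = 1) :
    ∃ a b c d : Fin 3 ⊕ Fin 3 → F, sympForm 3 F a b = 1 ∧ sympForm 3 F b c = 1 ∧ sympForm 3 F c d = 1 ∧
      sympForm 3 F a c = 0 ∧ sympForm 3 F a d = 0 ∧ sympForm 3 F b d = 0 ∧
      (∀ z ∈ ({x, y} : Set (Fin 3 ⊕ Fin 3 → F)), sympForm 3 F a z = 0 ∧ sympForm 3 F b z = 0 ∧
        sympForm 3 F c z = 0 ∧ sympForm 3 F d z = 0) := by
  have hyx : sympForm 3 F y x = 1 := by rw [swap2 hF, hxy]
  obtain ⟨e, he, hxe, hye⟩ := Cfsg.Agent.ClassicalGeometry.SympAutCentral.exists_perp_pair (F := F) (m := 3) (by norm_num) x y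
  have hex : sympForm 3 F e x = 0 := by rw [swap2 hF, hxe]
  have hey : sympForm 3 F e y = 0 := by rw [swap2 hF, hye]
  obtain ⟨g0, hg0⟩ := exists_form_eq_one he
  obtain ⟨g, hg, hgx, hgy⟩ : ∃ g, sympForm 3 F e g = 1 ∧ sympForm 3 F g x = 0 ∧ sympForm 3 F g y = 0 := by
    refine ⟨g0 + sympForm 3 F g0 y • x + sympForm 3 F g0 x • y, ?_, ?_, ?_⟩
    · simp only [sympForm_add_right, sympForm_smul_right, hg0, hex, hey]
      ring
    · simp only [sympForm_add_left, sympForm_smul_left, sympForm_self, hyx]
      rw [mul_zero, add_zero, mul_one]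
      exact adda hF _
    · simp only [sympForm_add_left, sympForm_smul_left, sympForm_self, hxy]
      rw [mul_zero, add_zero, mul_one]
      exact adda hF _
  have hge : sympForm 3 F g e = 1 := by rw [swap2 hF, hg]
  have hxg : sympForm 3 F x g = 0 := by rw [swap2 hF, hgx]
  have hyg : sympForm 3 F y g = 0 := by rw [swap2 hF, hgy]
  -- the second pair
  obtain ⟨e', he', h1, h2, h3, h4⟩ : ∃ e', e' ≠ 0 ∧ sympForm 3 F x e' = 0 ∧ sympForm 3 F y e' = 0 ∧
      sympForm 3 F e e' = 0 ∧ sympForm 3 F g e' = 0 := by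
    have hk := LinearMap.ker_ne_bot_of_finrank_lt (K := F)
      (f := LinearMap.pi (fun i : Fin 4 => sympBilin 3 F (![x, y, e, g] i))) (by simp)
    obtain ⟨z, hz, hz0⟩ := (Submodule.ne_bot_iff _).1 hk
    rw [LinearMap.mem_ker, funext_iff] at hz
    exact ⟨z, hz0, hz 0, hz 1, hz 2, hz 3⟩
  obtain ⟨g1, hg1⟩ := exists_form_eq_one he'
  have h1' : sympForm 3 F e' x = 0 := by rw [swap2 hF, h1]
  have h2' : sympForm 3 F e' y = 0 := by rw [swap2 hF, h2]
  have h3' : sympForm 3 F e' e = 0 := by rw [swap2 hF, h3]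
  have h4' : sympForm 3 F e' g = 0 := by rw [swap2 hF, h4]
  obtain ⟨g', k0, k1, k2, k3, k4⟩ : ∃ g', sympForm 3 F e' g' = 1 ∧ sympForm 3 F g' x = 0 ∧
      sympForm 3 F g' y = 0 ∧ sympForm 3 F g' e = 0 ∧ sympForm 3 F g' g = 0 := by
    refine ⟨g1 + sympForm 3 F g1 y • x + sympForm 3 F g1 x • y + sympForm 3 F g1 g • e + sympForm 3 F g1 e • g,
      ?_, ?_, ?_, ?_, ?_⟩
    · simp only [sympForm_add_right, sympForm_smul_right, hg1, h1', h2', h3', h4']
      ring
    · simp only [sympForm_add_left, sympForm_smul_left, sympForm_self, hyx, hex, hgx]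
      simp only [mul_zero, add_zero, mul_one]
      exact adda hF _
    · simp only [sympForm_add_left, sympForm_smul_left, sympForm_self, hxy, hey, hgy]
      simp only [mul_zero, add_zero, mul_one]
      exact adda hF _
    · simp only [sympForm_add_left, sympForm_smul_left, sympForm_self, hxe, hye, hge]
      simp only [mul_zero, add_zero, mul_one]
      exact adda hF _
    · simp only [sympForm_add_left, sympForm_smul_left, sympForm_self, hxg, hyg, hg]
      simp only [mul_zero, add_zero, mul_one]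
      exact adda hF _
  refine ⟨e, g, e + e', g', hg, ?_, ?_, ?_, ?_, ?_, ?_⟩
  · rw [sympForm_add_right, hge, h4, add_zero]
  · rw [sympForm_add_left, k0, swap2 hF e g', k3, zero_add]
  · rw [sympForm_add_right, sympForm_self, h3, add_zero]
  · rw [swap2 hF, k3]
  · rw [swap2 hF, k4]
  · rintro z (rfl | rfl)
    · exact ⟨hex, hgx, by rw [sympForm_add_left, hex, h1', add_zero], k1⟩
    · exact ⟨hey, hgy, by rw [sympForm_add_left, hey, h2', add_zero], k2⟩

omit hF [Fintype F] in
/-- kernel of the square of a linear map with `N ^ 4 = 0` on a six-dimensional space -/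
theorem finrank_ker_sq {W : Type*} [AddCommGroup W] [Module F W] [FiniteDimensional F W] (h6 : finrank F W = 6)
    (N : W →ₗ[F] W) (h4 : ∀ v, N (N (N (N v))) = 0) : 4 ≤ finrank F (LinearMap.ker (N ∘ₗ N)) := by
  by_contra hlt
  push Not at hlt
  have e1 := LinearMap.finrank_range_add_finrank_ker (N ∘ₗ N)
  rw [h6] at e1
  have e2 : LinearMap.range (N ∘ₗ N) ≤ LinearMap.ker (N ∘ₗ N) := by
    rintro _ ⟨v, rfl⟩
    exact h4 v
  have e3 : LinearMap.range (N ∘ₗ N) = LinearMap.ker (N ∘ₗ N) :=
    Submodule.eq_of_le_of_finrank_le e2 (by omega)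
  have e4 : finrank F (LinearMap.ker (N ∘ₗ N)) = 3 := by
    have := Submodule.finrank_mono e2
    omega
  -- the restriction
  let R := N.domRestrict (LinearMap.ker (N ∘ₗ N))
  have e5 := LinearMap.finrank_range_add_finrank_ker R
  have e6 : LinearMap.range R = LinearMap.ker N := by
    ext v
    constructor
    · rintro ⟨u, rfl⟩
      exact u.2
    · intro hv
      have hv' : v ∈ LinearMap.range (N ∘ₗ N) := by
        rw [e3]
        show N (N v) = 0
        rw [LinearMap.mem_ker.1 hv, map_zero]
      obtain ⟨u, rfl⟩ := hv'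
      exact ⟨⟨N u, hv⟩, rfl⟩
  have e7 : finrank F (LinearMap.ker R) = finrank F (LinearMap.ker N) := by
    refine LinearEquiv.finrank_eq ?_
    exact {
      toFun := fun v => ⟨v.1.1, v.2⟩
      invFun := fun v => ⟨⟨v.1, by
        show N (N v) = 0
        rw [LinearMap.mem_ker.1 v.2, map_zero]⟩, v.2⟩
      left_inv := fun v => rfl
      right_inv := fun v => rfl
      map_add' := fun a b => rfl
      map_smul' := fun a b => rfl }
  rw [e6, e7, e4] at e5
  omega

/-- an element as a linear map -/
def lm (g : G) : V →ₗ[F] V where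
  toFun v := g • v
  map_add' := smul_add' g
  map_smul' c v := smul_smul' g c v

/-- a hyperbolic pair in a subspace of dimension four -/
theorem exists_pair (W : Submodule F (Fin 3 ⊕ Fin 3 → F)) (hW : 4 ≤ finrank F W) :
    ∃ x ∈ W, ∃ y ∈ W, sympForm 3 F x y = 1 := by
  by_contra hno
  push Not at hno
  have h0 : ∀ x ∈ W, ∀ y ∈ W, sympForm 3 F x y = 0 := fun x hx y hy =>
    (zo hF _).resolve_right (hno x hx y hy)
  have h6 : finrank F (Fin 3 ⊕ Fin 3 → F) = 6 := by simp
  have e1 := LinearMap.BilinForm.finrank_orthogonal (B := sympBilin 3 F) (sympBilin_nondegenerate) W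
  have e2 : W ≤ LinearMap.BilinForm.orthogonal (sympBilin 3 F) W := by
    intro x hx y hy
    exact h0 y hy x hx
  have e3 := Submodule.finrank_mono e2
  rw [e1, h6] at e3
  omega

/-- **elements of order dividing four of `Sp₆(2)`** -/
theorem main (h : Matrix.symplecticGroup (Fin 3) F) (h4 : h ^ 4 = 1) :
    ∃ s t : Matrix.symplecticGroup (Fin 3) F, orderOf s = 3 ∧ orderOf t = 5 ∧ h ^ 2 * s = s * h ^ 2 ∧
      t * s = s * t := by
  have h6 : finrank F (Fin 3 ⊕ Fin 3 → F) = 6 := by simp
  let N : (Fin 3 ⊕ Fin 3 → F) →ₗ[F] (Fin 3 ⊕ Fin 3 → F) := lm h + LinearMap.id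
  have hN : ∀ v, N v = h • v + v := fun v => rfl
  have hN2 : ∀ v, N (N v) = h ^ 2 • v + v := by
    intro v
    have e : N (N v) = h ^ 2 • v + (h • v + h • v) + v := by
      rw [hN, hN, smul_add', pow_two, mul_smul]
      abel
    rw [e, addv hF, add_zero]
  have hN4 : ∀ v, N (N (N (N v))) = 0 := by
    intro v
    have e : N (N (N (N v))) = h ^ 4 • v + (h ^ 2 • v + h ^ 2 • v) + v := by
      rw [hN2, hN2, smul_add', ← mul_smul, ← pow_add]
      abel
    rw [e, addv hF, add_zero, h4, one_smul, addv hF]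
  have hk := finrank_ker_sq h6 N hN4
  obtain ⟨x, hx, y, hy, hxy⟩ := exists_pair hF _ hk
  have hfix : ∀ z ∈ LinearMap.ker (N ∘ₗ N), h ^ 2 • z = z := by
    intro z hz
    have h7 : h ^ 2 • z + z = 0 := by
      rw [← hN2]
      exact hz
    have h8 := congrArg (fun u => u + z) h7
    simp only [add_assoc, addv hF, add_zero, zero_add] at h8
    exact h8
  obtain ⟨a, b, c, d, hab, hbc, hcd, hac, had, hbd, hz⟩ := exists_five hF hxy
  obtain ⟨ax, bx, cx, dx⟩ := hz x (Or.inl rfl)
  obtain ⟨ay, by', cy, dy⟩ := hz y (Or.inr rfl)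
  refine ⟨T x * T y, T a * T b * T c * T d, order_three hF hxy, order_five hF hab hbc hcd hac had hbd, ?_, ?_⟩
  · rw [← mul_assoc, T_comm (hfix x hx), mul_assoc, T_comm (hfix y hy), mul_assoc]
  · have key : ∀ z : Fin 3 ⊕ Fin 3 → F, sympForm 3 F a z = 0 → sympForm 3 F b z = 0 → sympForm 3 F c z = 0 →
        sympForm 3 F d z = 0 → Commute (T a * T b * T c * T d) (T z) := by
      intro z h1 h2 h3 h4
      have k : ∀ u, sympForm 3 F u z = 0 → Commute (T u) (T z) := fun u hu => by
        show T u * T z = T z * T u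
        exact T_comm' (by rw [swap2 hF, hu])
      exact (((k a h1).mul_left (k b h2)).mul_left (k c h3)).mul_left (k d h4)
    exact (key x ax bx cx dx).mul_right (key y ay by' cy dy)

end

end Cfsg.Agent.H320.O8.Sp6
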