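import Cfsg.Agent.H320.O8.Arith
import Cfsg.Agent.H320.O8.Sp6
import Cfsg.Agent.H320.O8.NoOrd
import Cfsg.Agent.H320.O8.Section
import Cfsg.Agent.OrdDiv.Table
import Cfsg.Agent.H938.Sax.Base

/-!
# Maximal subgroups of `Ω₈⁺(2)` miss an automorphism class (helper320, task 1607 (b))
-/

set_option autoImplicit false

namespace Cfsg.Agent.H320.O8

open Subgroup Cfsg.Agent.OrdDiv Cfsg.Agent.H938.Sax

/-- elements of order three are cubes when the Sylow 3-subgroups are cyclic of order nine -/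
theorem cube_of_sylow {M : Type*} [Group M] [Finite M] (h27 : ¬ 27 ∣ Nat.card M) {w : M} (hw : orderOf w = 9) {x : M}
    (hx : orderOf x = 3) : ∃ y : M, orderOf y = 9 ∧ y ^ 3 = x := by
  have := Fact.mk Nat.prime_three
  have h0 : Nat.card M ≠ 0 := Nat.card_pos.ne'
  have hfac : (Nat.card M).factorization 3 = 2 := by
    have a1 : 2 ≤ (Nat.card M).factorization 3 :=
      (Nat.Prime.pow_dvd_iff_le_factorization Nat.prime_three h0).1 (by
        have := orderOf_dvd_natCard w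
        rw [hw] at this
        exact this)
    have a2 : ¬ 3 ≤ (Nat.card M).factorization 3 := fun h' =>
      h27 ((Nat.Prime.pow_dvd_iff_le_factorization Nat.prime_three h0).2 h')
    omega
  let Q : Sylow 3 M := Sylow.ofCard (zpowers w) (by rw [Nat.card_zpowers, hw, hfac]; norm_num)
  obtain ⟨R, hR⟩ := (IsPGroup.of_card (n := 1) (show Nat.card (zpowers x) = 3 ^ 1 by
    rw [Nat.card_zpowers, hx, pow_one])).exists_le_sylow
  obtain ⟨z, hz⟩ := MulAction.exists_smul_eq M R Q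
  have h3 : z * x * z⁻¹ ∈ zpowers w := by
    have h4 : z * x * z⁻¹ ∈ (z • R : Sylow 3 M) := ⟨x, hR (mem_zpowers x), rfl⟩
    rw [hz] at h4
    exact h4
  obtain ⟨n, hn⟩ := (mem_powers_iff_mem_zpowers.2 h3)
  have hn' : w ^ n = z * x * z⁻¹ := hn
  have ho : orderOf (w ^ n) = 3 := by
    rw [hn', ← hx]
    exact orderOf_injective (MulAut.conj z).toMonoidHom (MulAut.conj z).injective x
  rw [orderOf_pow, hw] at ho
  have h5 : Nat.gcd 9 n = 3 := by
    have h6 : Nat.gcd 9 n ∣ 9 := Nat.gcd_dvd_left _ _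
    generalize Nat.gcd 9 n = d at ho h6
    have h7 : d ≤ 9 := Nat.le_of_dvd (by norm_num) h6
    interval_cases d <;> omega
  have h6 : 3 ∣ n := by
    rw [← h5]
    exact Nat.gcd_dvd_right _ _
  obtain ⟨j, rfl⟩ := h6
  have h7 : Nat.gcd 3 j = 1 := by
    have h8 : Nat.gcd (3 * 3) (3 * j) = 3 * Nat.gcd 3 j := Nat.gcd_mul_left 3 3 j
    have h9 : Nat.gcd (3 * 3) (3 * j) = 3 := h5
    omega
  refine ⟨z⁻¹ * w ^ j * z, ?_, ?_⟩
  · have h8 : orderOf (w ^ j) = 9 := by
      rw [orderOf_pow, hw]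
      have h9 : Nat.gcd 9 j = 1 := Nat.Coprime.pow_left 2 h7
      rw [h9]
    rw [← h8]
    have h9 := orderOf_injective (MulAut.conj z⁻¹).toMonoidHom (MulAut.conj z⁻¹).injective (w ^ j)
    rw [← h9]
    congr 1
    show z⁻¹ * w ^ j * z = z⁻¹ * w ^ j * z⁻¹⁻¹
    rw [inv_inv]
  · have h8 : (z⁻¹ * w ^ j * z) ^ 3 = z⁻¹ * (w ^ j) ^ 3 * z := by
      simp only [pow_succ, pow_zero, one_mul]
      group
    rw [h8, ← pow_mul, mul_comm j 3, hn']
    group

/-- a group with everything -/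
structure Bad (M : Type*) [Group M] : Prop where
  sub : Sub M
  ne : Nat.card M ≠ 174182400
  e7 : ∃ y : M, orderOf y = 7
  e8 : ∃ y : M, orderOf y = 8
  e9 : ∃ y : M, orderOf y = 9
  e15 : ∃ y : M, orderOf y = 15
  e3 : ∃ x : M, orderOf x = 3 ∧ ∀ y, orderOf y = 9 → y ^ 3 ≠ x
  e4 : ∃ g : M, g ^ 4 = 1 ∧ ∀ s f : M, orderOf s = 3 → orderOf f = 5 → g ^ 2 * s = s * g ^ 2 → f * s = s * f → False

/-- the candidates -/
def cl : List Grp := [.alt 7, .alt 8, .alt 9, .alt 10, .psl 3 2, .psl 4 2, .psl 3 4, .psl 2 8, .psl 2 7, .psp 3 2,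
  .psu 3 3, .oplus 4 2, .j2]

set_option maxRecDepth 100000 in
theorem cl_eq : ((cands [(2, 12), (3, 5), (5, 2), (7, 1)] 174182400).filter fun g => ordN g % 7 == 0) = cl := by
  decide +kernel

theorem cl_ord : ∀ g ∈ cl, (g = .alt 9 ∧ ordN g = 181440) ∨ (g = .psp 3 2 ∧ ordN g = 1451520) ∨ (g = .j2 ∧ ordN g = 604800) ∨
    ordN g = 2520 ∨ ordN g = 20160 ∨ ordN g = 1814400 ∨ ordN g = 168 ∨ ordN g = 504 ∨ ordN g = 6048 ∨
    ordN g = 174182400 := by
  decide +kernel

theorem Bad.false {M : Type} [Group M] (h : Bad M)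
    (known : ∀ (S : Type) [Group S] [Finite S], IsSimpleGroup S → Cfsg.IsKnownSimple' S) : False := by
  have hfin := h.sub.finite
  have h7M : 7 ∣ Nat.card M := by
    obtain ⟨y, hy⟩ := h.e7
    rw [← hy]
    exact orderOf_dvd_natCard y
  have h9M : 9 ∣ Nat.card M := by
    obtain ⟨y, hy⟩ := h.e9
    rw [← hy]
    exact orderOf_dvd_natCard y
  have h15M : 15 ∣ Nat.card M := by
    obtain ⟨y, hy⟩ := h.e15
    rw [← hy]
    exact orderOf_dvd_natCard y
  obtain ⟨S, hSn, hS, hna, h7⟩ := h.sub.exists_simple h7M h.e9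
  obtain ⟨b, e, n, hb, hcM, hbe, hcS, hn1⟩ := h.sub.numbers hS hna h7
  have hdS : Nat.card S ∣ 174182400 := (Subgroup.card_subgroup_dvd_card S).trans h.sub.card
  obtain ⟨g, hg, hr, ho⟩ := exists_good table (known S hS) hna (l := [(2, 12), (3, 5), (5, 2), (7, 1)])
    (N := 174182400) (by decide +kernel) hdS
  have hg2 : g ∈ cl := by
    rw [← cl_eq, List.mem_filter]
    refine ⟨hg, ?_⟩
    rw [← ho]
    simpa using Nat.mod_eq_zero_of_dvd h7
  have he0 : e ≠ 0 := by
    rintro rfl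
    rw [zero_mul] at hcM
    exact Nat.card_pos.ne' hcM
  have he1 : 1 ≤ e := Nat.pos_of_ne_zero he0
  have he3 : e ≤ 3 := by
    have h1 := Nat.le_of_dvd (by norm_num) hbe
    rcases hb with rfl | rfl | rfl <;> omega
  have htop : e = 1 → Nonempty (M ≃* S) := by
    intro he
    rw [he, one_mul] at hcM
    have : S = ⊤ := Subgroup.eq_top_of_card_eq S hcM.symm
    subst this
    exact ⟨Subgroup.topEquiv.symm⟩
  rcases cl_ord g hg2 with ⟨rfl, h0⟩ | ⟨rfl, h0⟩ | ⟨rfl, h0⟩ | h0 | h0 | h0 | h0 | h0 | h0 | h0 <;> rw [h0] at ho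
  · -- `A₉`
    have he : e = 1 := by
      rw [ho] at hcS
      rcases hb with rfl | rfl | rfl
      · omega
      · omega
      · have h1 := Nat.le_of_dvd (by norm_num) hbe
        omega
    obtain ⟨u⟩ := htop he
    obtain ⟨v⟩ := hr
    obtain ⟨y, hy⟩ := h.e8
    refine NoOrd.alt_nine (v (u y)) ?_
    rw [orderOf_e, orderOf_e, hy]
  · -- `Sp₆(2)`
    have he : e = 1 := by
      rw [ho] at hcS
      rcases hb with rfl | rfl | rfl
      · omega
      · omega
      · have h1 := Nat.le_of_dvd (by norm_num) hbe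
        omega
    obtain ⟨u⟩ := htop he
    obtain ⟨F, _, _, hF, ⟨v⟩⟩ := hr
    obtain ⟨y, hy, hno⟩ := h.e4
    let w : M ≃* Matrix.symplecticGroup (Fin 3) F := (u.trans v).trans (Sp6.pe hF)
    obtain ⟨s, t, hs, ht, h1, h2⟩ := Sp6.main hF (w y) (by rw [← map_pow, hy, map_one])
    refine hno (w.symm s) (w.symm t) (by rw [orderOf_e, hs]) (by rw [orderOf_e, ht]) ?_ ?_
    · apply w.injective
      rw [map_mul, map_mul, map_pow, w.apply_symm_apply, h1]
    · apply w.injective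
      rw [map_mul, map_mul, w.apply_symm_apply, w.apply_symm_apply, h2]
  · -- `J₂`
    have he : e = 1 := by
      rw [ho] at hcS
      rcases hb with rfl | rfl | rfl
      · omega
      · omega
      · have h1 := Nat.le_of_dvd (by norm_num) hbe
        omega
    obtain ⟨u⟩ := htop he
    obtain ⟨v⟩ := hr
    obtain ⟨y, hy⟩ := h.e9
    refine NoOrd.j2_no_nine (u.trans v) ?_ y hy
    rw [hcM, he, ho, one_mul]
  · -- order 2520
    have he : e ≤ 2 := by
      rw [ho] at hcS
      rcases hb with rfl | rfl | rfl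
      · omega
      · have h1 := Nat.le_of_dvd (by norm_num) hbe
        omega
      · omega
    obtain ⟨w, hw⟩ := h.e9
    obtain ⟨x, hx, hno⟩ := h.e3
    obtain ⟨y, hy, hyx⟩ := cube_of_sylow (by rw [hcM, ho]; interval_cases e <;> norm_num) hw hx
    exact hno y hy hyx
  · -- order 20160
    have he : e ≤ 2 := by
      rw [ho] at hcS
      rcases hb with rfl | rfl | rfl
      · omega
      · have h1 := Nat.le_of_dvd (by norm_num) hbe
        omega
      · omega
    obtain ⟨w, hw⟩ := h.e9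
    obtain ⟨x, hx, hno⟩ := h.e3
    obtain ⟨y, hy, hyx⟩ := cube_of_sylow (by rw [hcM, ho]; interval_cases e <;> norm_num) hw hx
    exact hno y hy hyx
  · -- order 1814400
    rw [ho] at hcS
    rcases hb with rfl | rfl | rfl <;> omega
  · rw [hcM, ho] at h15M
    interval_cases e <;> norm_num at h15M
  · rw [hcM, ho] at h15M
    interval_cases e <;> norm_num at h15M
  · rw [hcM, ho] at h15M
    interval_cases e <;> norm_num at h15M
  · -- order 174182400
    have h1 := Nat.le_of_dvd (by norm_num) h.sub.card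
    have h2 := h.ne
    rw [hcM, ho] at h1 h2
    interval_cases e <;> omega

/-- a subgroup which misses nothing is everything -/
theorem miss_of {T : Type} [Group T] (hT : Fct T)
    (known : ∀ (S : Type) [Group S] [Finite S], IsSimpleGroup S → Cfsg.IsKnownSimple' S) (M : Subgroup T)
    (hM : M ≠ ⊤) : Miss T M := by
  have := hT.finite
  by_contra hno
  have key : ∀ g : T, ∃ m ∈ M, ∃ φ : T ≃* T, φ g = m := by
    intro g
    by_contra hc
    push Not at hc
    exact hno ⟨g, fun φ hφ => hc _ hφ φ rfl⟩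
  have ord : ∀ n, (∃ y : T, orderOf y = n) → ∃ y : M, orderOf y = n := by
    rintro n ⟨y, hy⟩
    obtain ⟨m, hm, φ, rfl⟩ := key y
    exact ⟨⟨_, hm⟩, by rw [Subgroup.orderOf_mk, orderOf_e, hy]⟩
  refine Bad.false (M := M) ⟨hT.sub M.subtype M.subtype_injective, ?_, ord 7 ?_, ord 8 hT.e8, ord 9 hT.e9, ord 15 hT.e15,
    ?_, ?_⟩ known
  · intro hc
    exact hM (Subgroup.eq_top_of_card_eq M (by rw [hc, hT.card]))
  · exact @exists_prime_orderOf_dvd_card' T _ _ 7 ⟨by norm_num⟩ (by rw [hT.card]; norm_num)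
  · obtain ⟨x, hx, hn⟩ := hT.e3
    obtain ⟨m, hm, φ, rfl⟩ := key x
    refine ⟨⟨_, hm⟩, by rw [Subgroup.orderOf_mk, orderOf_e, hx], fun y hy hyx => ?_⟩
    refine hn (φ.symm y) (by rw [orderOf_e, Subgroup.orderOf_coe, hy]) ?_
    rw [← map_pow]
    have h1 : (y : T) ^ 3 = φ x := congrArg Subtype.val hyx
    rw [h1, φ.symm_apply_apply]
  · obtain ⟨g, hg, hn⟩ := hT.e4
    obtain ⟨m, hm, φ, rfl⟩ := key g
    refine ⟨⟨_, hm⟩, Subtype.ext (by
      show (φ g) ^ 4 = 1
      rw [← map_pow, hg, map_one]), fun s f hs hf h1 h2 => ?_⟩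
    refine hn (φ.symm s) (φ.symm f) (by rw [orderOf_e, Subgroup.orderOf_coe, hs])
      (by rw [orderOf_e, Subgroup.orderOf_coe, hf]) ?_ ?_
    · have h3 : (φ g) ^ 2 * (s : T) = s * (φ g) ^ 2 := congrArg Subtype.val h1
      apply φ.injective
      rw [map_mul, map_mul, map_pow, φ.apply_symm_apply, h3]
    · have h3 : (f : T) * s = s * f := congrArg Subtype.val h2
      rw [← map_mul, h3, map_mul]

/-- **(b), from the classification** -/
theorem o8p2_missMax {F : Type} [Field F] [Fintype F] (hF : Fintype.card F = 2)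
    (known : ∀ (S : Type) [Group S] [Finite S], IsSimpleGroup S → Cfsg.IsKnownSimple' S) :
    MissMax (Cfsg.POmega F (Cfsg.quadFormPlus 4 F)) :=
  fun M hM => miss_of (fct_T hF) known M hM.1

end Cfsg.Agent.H320.O8
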