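import Cfsg.Agent.H320.O8.Facts

/-!
# Subgroups of `Ω₈⁺(2)` with elements of orders seven and nine (helper320)
-/

set_option autoImplicit false

namespace Cfsg.Agent.H320.O8

open Subgroup

/-- facts inherited by subgroups -/
structure Sub (H : Type*) [Group H] : Prop where
  card : Nat.card H ∣ 174182400
  cent : ∀ y x : H, orderOf y = 7 → x * y = y * x → x ∈ zpowers y
  two : ∀ (K : Subgroup H) (g : H), IsPGroup 2 K → Nat.card K % 7 = 1 → orderOf g = 9 →
    g ∈ normalizer (K : Set H) → K = ⊥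

theorem Fct.finite {T : Type*} [Group T] (h : Fct T) : Finite T :=
  Nat.finite_of_card_ne_zero (by rw [h.card]; norm_num)

theorem Fct.sub {T : Type*} [Group T] (h : Fct T) {H : Type*} [Group H] (i : H →* T) (hi : Function.Injective i) :
    Sub H where
  card := by
    rw [← h.card, Nat.card_congr (MonoidHom.ofInjective hi).toEquiv]
    exact Subgroup.card_subgroup_dvd_card _
  cent := fun y x hy hxy => by
    have := h.finite
    have h1 : orderOf (i y) = 7 := by rw [orderOf_injective i hi, hy]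
    have h2 : zpowers (i y) = centralizer ({i y} : Set T) := by
      apply Subgroup.eq_of_le_of_card_ge
      · rw [zpowers_le, mem_centralizer_singleton_iff]
      · rw [h.c7 _ h1, Nat.card_zpowers, h1]
    have h3 : i x ∈ zpowers (i y) := by
      rw [h2, mem_centralizer_singleton_iff, ← map_mul, ← map_mul, hxy]
    obtain ⟨n, hn⟩ := mem_zpowers_iff.1 h3
    exact mem_zpowers_iff.2 ⟨n, hi (by rw [map_zpow, hn])⟩
  two := fun K g h2 h7 hg hn => by
    have h4 : K.map i = ⊥ := by
      refine h.two (K.map i) (i g) (h2.map _) ?_ (by rw [orderOf_injective i hi, hg]) ?_ ?_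
      · rw [Nat.card_congr (K.equivMapOfInjective i hi).toEquiv.symm]
        exact h7
      · rintro _ ⟨k, hk, rfl⟩
        refine ⟨g⁻¹ * k * g, ?_, by rw [map_mul, map_mul, map_inv]⟩
        have := (mem_normalizer_iff.1 (inv_mem hn) k).1 hk
        rwa [inv_inv] at this
      · rintro _ ⟨k, hk, rfl⟩
        exact ⟨g * k * g⁻¹, (mem_normalizer_iff.1 hn k).1 hk, by rw [map_mul, map_mul, map_inv]⟩
    exact (Subgroup.map_eq_bot_iff_of_injective K hi).1 h4

section

variable {H : Type*} [Group H]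

/-- conjugation as a permutation of a normalised subgroup -/
def cj {K : Subgroup H} {y : H} (hy : y ∈ normalizer (K : Set H)) : Equiv.Perm K where
  toFun k := ⟨y * k * y⁻¹, (mem_normalizer_iff.1 hy _).1 k.2⟩
  invFun k := ⟨y⁻¹ * k * y, by
    have := (mem_normalizer_iff.1 (inv_mem hy) k).1 k.2
    rwa [inv_inv] at this⟩
  left_inv k := Subtype.ext (by
    show y⁻¹ * (y * k * y⁻¹) * y = k
    group)
  right_inv k := Subtype.ext (by
    show y * (y⁻¹ * k * y) * y⁻¹ = k
    group)

theorem cj_pow {K : Subgroup H} {y : H} (hy : y ∈ normalizer (K : Set H)) (n : ℕ) (k : K) :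
    (((cj hy ^ n : Equiv.Perm K) k : K) : H) = y ^ n * k * (y ^ n)⁻¹ := by
  induction n generalizing k with
  | zero => simp
  | succ n ih =>
    rw [pow_succ, Equiv.Perm.mul_apply, ih]
    show y ^ n * (y * k * y⁻¹) * (y ^ n)⁻¹ = _
    rw [pow_succ]
    group

theorem Sub.finite (h : Sub H) : Finite H :=
  Nat.finite_of_card_ne_zero fun h0 => by
    have := h.card
    rw [h0] at this
    norm_num at this

/-- **the order of a subgroup normalised by an element of order seven** -/
theorem Sub.mod_seven (h : Sub H) {K : Subgroup H} (h7 : ¬ 7 ∣ Nat.card K) {y : H} (hy : orderOf y = 7)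
    (hn : y ∈ normalizer (K : Set H)) : Nat.card K % 7 = 1 := by
  have := h.finite
  have h1 := fix_mod (p := 7) (by norm_num) (cj hn) (by
    ext k
    rw [cj_pow, ← hy, pow_orderOf_eq_one]
    simp)
  have h2 : Nat.card {a : K // cj hn a = a} = 1 := by
    rw [Nat.card_eq_one_iff_unique]
    refine ⟨⟨?_⟩, ⟨⟨1, Subtype.ext (by show y * 1 * y⁻¹ = 1; group)⟩⟩⟩
    have key : ∀ a : {a : K // cj hn a = a}, ((a : K) : H) = 1 := by
      rintro ⟨a, ha⟩
      have h3 : y * a * y⁻¹ = a := congrArg Subtype.val ha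
      have h4 : (a : H) ∈ zpowers y := h.cent y a hy (by
        calc (a : H) * y = y * a * y⁻¹ * y := by rw [h3]
          _ = y * a := by group)
      have h5 : orderOf (a : H) ∣ 7 := by
        have h6 := Subgroup.orderOf_dvd_natCard (zpowers y) h4
        rwa [Nat.card_zpowers, hy] at h6
      have h6 : orderOf (a : H) ∣ Nat.card K := Subgroup.orderOf_dvd_natCard K a.2
      rcases (Nat.dvd_prime (by norm_num)).1 h5 with h8 | h8
      · exact orderOf_eq_one_iff.1 h8
      · rw [h8] at h6
        exact absurd h6 h7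
    intro a b
    exact Subtype.ext (Subtype.ext (by rw [key a, key b]))
  rw [h2] at h1
  exact h1

/-- elements of order seven normalising a Sylow subgroup -/
theorem exists_seven [Finite H] (h7 : 7 ∣ Nat.card H) {N : Subgroup H} [N.Normal] (hN : ¬ 7 ∣ Nat.card N) {p : ℕ}
    [Fact p.Prime] (P : Sylow p N) : ∃ y : H, orderOf y = 7 ∧
      y ∈ normalizer ((P.map N.subtype : Subgroup H) : Set H) := by
  have h1 := Sylow.normalizer_sup_eq_top P
  have h2 : 7 ∣ Nat.card (H ⧸ N) := by
    have := Subgroup.card_eq_card_quotient_mul_card_subgroup N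
    rw [this] at h7
    exact ((Nat.Prime.dvd_mul (by norm_num)).1 h7).resolve_right hN
  have h3 : Function.Surjective ((QuotientGroup.mk' N).comp
      (normalizer ((P.map N.subtype : Subgroup H) : Set H)).subtype) := by
    intro q
    obtain ⟨x, rfl⟩ := QuotientGroup.mk'_surjective N q
    have hx : x ∈ normalizer ((P.map N.subtype : Subgroup H) : Set H) ⊔ N := by rw [h1]; trivial
    obtain ⟨a, ha, b, hb, rfl⟩ := Subgroup.mem_sup_of_normal_right.1 hx
    refine ⟨⟨a, ha⟩, ?_⟩
    show QuotientGroup.mk' N a = QuotientGroup.mk' N (a * b)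
    have hb1 : QuotientGroup.mk' N b = 1 := (QuotientGroup.eq_one_iff b).2 hb
    rw [map_mul, hb1, mul_one]
  have h4 : 7 ∣ Nat.card (normalizer ((P.map N.subtype : Subgroup H) : Set H)) :=
    h2.trans (Subgroup.card_dvd_of_surjective _ h3)
  obtain ⟨y, hy⟩ := @exists_prime_orderOf_dvd_card' _ _ _ 7 ⟨by norm_num⟩ h4
  exact ⟨y, by rw [Subgroup.orderOf_coe]; exact hy, y.2⟩

/-- **normal subgroups of order prime to seven are trivial** -/
theorem Sub.eq_bot (h : Sub H) (h7 : 7 ∣ Nat.card H) (h9 : ∃ g : H, orderOf g = 9) (N : Subgroup H) [N.Normal]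
    (hN : ¬ 7 ∣ Nat.card N) : N = ⊥ := by
  have := h.finite
  have key : ∀ p, p.Prime → ∀ k, p ^ k ∣ Nat.card N → (∀ j, 1 ≤ j → j ≤ k → p ^ j % 7 ≠ 1) →
      ¬ p ^ (k + 1) ∣ Nat.card N → k = 0 := by
    intro p hp k hk hj hk1
    have := Fact.mk hp
    obtain ⟨P⟩ : Nonempty (Sylow p N) := inferInstance
    obtain ⟨y, hy, hy2⟩ := exists_seven h7 hN P
    have e1 : Nat.card (P.map N.subtype : Subgroup H) = Nat.card P :=
      Nat.card_congr ((P : Subgroup N).equivMapOfInjective N.subtype N.subtype_injective).toEquiv.symm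
    have e2 : Nat.card P = p ^ (Nat.card N).factorization p := P.card_eq_multiplicity
    have e3 : (Nat.card N).factorization p = k := by
      have h0 : Nat.card N ≠ 0 := Nat.card_pos.ne'
      have a1 := (hp.pow_dvd_iff_le_factorization h0).1 hk
      have a2 : ¬ k + 1 ≤ (Nat.card N).factorization p := fun h' => hk1 ((hp.pow_dvd_iff_le_factorization h0).2 h')
      omega
    rw [e3] at e2
    have h3 : ¬ 7 ∣ Nat.card (P.map N.subtype : Subgroup H) := by
      rw [e1, e2]
      intro h4
      have h5 : 7 ∣ p ^ k := h4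
      have h6 := h5.trans hk
      exact hN h6
    have h4 := h.mod_seven h3 hy hy2
    rw [e1, e2] at h4
    by_contra h0
    exact hj k (by omega) le_rfl h4
  have hd : Nat.card N ∣ 174182400 := (Subgroup.card_subgroup_dvd_card N).trans h.card
  have hpr : (174182400 : ℕ) = 2 ^ 12 * (3 ^ 5 * (5 ^ 2 * 7)) := by norm_num
  -- the exponents
  obtain ⟨a, c, ha, hc, hac⟩ := (Nat.dvd_mul).1 (hpr ▸ hd)
  obtain ⟨b, d, hb, hd2, hbd⟩ := (Nat.dvd_mul).1 hc
  obtain ⟨e, f, he, hf, hef⟩ := (Nat.dvd_mul).1 hd2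
  obtain ⟨i, hi, rfl⟩ := (Nat.dvd_prime_pow Nat.prime_two).1 ha
  obtain ⟨j, hj, rfl⟩ := (Nat.dvd_prime_pow Nat.prime_three).1 hb
  obtain ⟨l, hl, rfl⟩ := (Nat.dvd_prime_pow Nat.prime_five).1 he
  have hf1 : f = 1 := by
    rcases (Nat.dvd_prime (by norm_num)).1 hf with h1 | h1
    · exact h1
    · exfalso
      apply hN
      rw [← hac, ← hbd, ← hef, h1]
      exact Dvd.dvd.mul_left (Dvd.dvd.mul_left (Dvd.intro_left _ rfl) _) _
  subst hf1
  have hcard : Nat.card N = 2 ^ i * (3 ^ j * (5 ^ l * 1)) := by rw [hef, hbd, hac]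
  have hj0 : j = 0 := by
    refine key 3 (by norm_num) j ?_ ?_ ?_
    · rw [hcard]
      exact Dvd.dvd.mul_left (Dvd.intro _ rfl) _
    · intro t ht ht2
      have h5 : t ≤ 5 := ht2.trans hj
      clear ht2
      interval_cases t <;> norm_num
    · rw [hcard]
      intro hdv
      have c1 : Nat.Coprime (3 ^ (j + 1)) (2 ^ i) := Nat.Coprime.pow _ _ (by norm_num)
      have c2 : Nat.Coprime (3 ^ (j + 1)) (5 ^ l * 1) := by
        rw [mul_one]
        exact Nat.Coprime.pow _ _ (by norm_num)
      have h1 := c2.dvd_of_dvd_mul_right (c1.dvd_of_dvd_mul_left hdv)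
      have h2 := Nat.le_of_dvd (by positivity) h1
      exact absurd h2 (not_le.2 (Nat.pow_lt_pow_right (by norm_num) (by omega)))
  have hl0 : l = 0 := by
    refine key 5 (by norm_num) l ?_ ?_ ?_
    · rw [hcard]
      exact Dvd.dvd.mul_left (Dvd.dvd.mul_left (Dvd.intro _ rfl) _) _
    · intro t ht ht2
      have h5 : t ≤ 2 := ht2.trans hl
      clear ht2
      interval_cases t <;> norm_num
    · rw [hcard]
      intro hdv
      have c1 : Nat.Coprime (5 ^ (l + 1)) (2 ^ i) := Nat.Coprime.pow _ _ (by norm_num)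
      have c2 : Nat.Coprime (5 ^ (l + 1)) (3 ^ j) := Nat.Coprime.pow _ _ (by norm_num)
      have h1 := c2.dvd_of_dvd_mul_left (c1.dvd_of_dvd_mul_left hdv)
      rw [mul_one] at h1
      have h2 := Nat.le_of_dvd (by positivity) h1
      exact absurd h2 (not_le.2 (Nat.pow_lt_pow_right (by norm_num) (by omega)))
  subst hj0 hl0
  have hcard2 : Nat.card N = 2 ^ i := by rw [hcard]; ring
  obtain ⟨y, hy⟩ := @exists_prime_orderOf_dvd_card' H _ _ 7 ⟨by norm_num⟩ h7
  obtain ⟨g, hg⟩ := h9
  have hm := h.mod_seven hN hy (by rw [normalizer_eq_top]; trivial)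
  exact h.two N g (IsPGroup.of_card hcard2) hm hg (by rw [normalizer_eq_top]; trivial)

end

end Cfsg.Agent.H320.O8
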